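import Cfsg.Agent.Lib.AltTwelve.Sp.Model
import Cfsg.Agent.Lib.SpThreeCent.SixEnd.Bridge

/-!
# The embedding of the model of `Sp₆(2)`

Six of the seven nodes lie in the centralizer; the seventh is a conjugate of one of its elements by an element
of order three that permutes a line of the Lagrangian and fixes the fourth point and the third node.
-/

set_option autoImplicit false
set_option maxRecDepth 100000
set_option linter.unusedSectionVars false

namespace Cfsg.Agent.AltTwelve.Sp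

open Cfsg.Agent.SpThreeCent.SixEnd (S node exists_model_hom)

universe u

variable {G : Type u} [Group G]

/-- The centralizer with the model, and an element of order three on a line. -/
structure Conf (a : G) (ψ : C0 →* G) (g : G) : Prop where
  inj : Function.Injective ψ
  range : ψ.range = Subgroup.centralizer ({a} : Set G)
  alpha : ψ alC = a
  fus : ∀ c : C0, IsConj a (ψ c) → c = alC ∨ ∃ i, c = T i
  one : g * a * g⁻¹ = ψ (T 0)
  two : g * ψ (T 0) * g⁻¹ = ψ (T 1)
  fix : g * ψ (T 18) * g⁻¹ = ψ (T 18)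

/-- An element or the identity. -/
def pick (b : Bool) (x : G) : G := bif b then x else 1

theorem commute_pick {x y : G} (h : Commute x y) (b : Bool) : Commute (pick b x) y := by
  cases b
  exacts [Commute.one_left y, h]

namespace Conf

variable {a g : G} {ψ : C0 →* G} (D : Conf a ψ g)
include D

theorem commute_alpha (c : C0) : Commute (ψ c) a := D.alpha ▸ (alC_central c).map ψ

theorem commute_iff {c d : C0} : Commute (ψ c) (ψ d) ↔ Commute c d :=
  ⟨fun h => D.inj (by rw [map_mul, map_mul, h.eq]), fun h => h.map ψ⟩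

theorem com_iff' (i j : Fin 30) : com i j = true ↔ Commute (ψ (T i)) (ψ (T j)) :=
  (com_iff i j).trans D.commute_iff.symm

theorem exists_of_conj {x : G} (hc : Commute x a) (h : IsConj a x) :
    x = a ∨ ∃ i, x = ψ (T i) := by
  have hx : x ∈ ψ.range := D.range ▸ Subgroup.mem_centralizer_singleton_iff.2 hc.eq
  obtain ⟨c, rfl⟩ := hx
  rcases D.fus c h with rfl | ⟨i, rfl⟩
  exacts [Or.inl D.alpha, Or.inr ⟨i, rfl⟩]

theorem conj_v : IsConj a (ψ (T 18)) := by
  obtain ⟨i, j, h⟩ := move_u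
  have h' : T i * T j * T 0 = T 18 * (T i * T j) := Subtype.ext h
  refine (isConj_iff.2 ⟨g, D.one⟩).trans (isConj_iff.2 ⟨ψ (T i * T j), ?_⟩)
  rw [← map_inv, ← map_mul, ← map_mul, h', mul_inv_cancel_right]

/-- A commutation transported by the element of order three. -/
theorem move_comm {x y x' y' : G} (hx : g * x * g⁻¹ = x') (hy : g * y * g⁻¹ = y') :
    Commute x' y' ↔ Commute x y := by
  subst hx hy
  simp only [← MulAut.conj_apply]
  exact ⟨fun h => (MulAut.conj g).injective (by rw [map_mul, map_mul, h.eq]),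
    fun h => h.map (MulAut.conj g)⟩

/-- An element of order three fixing the third node. -/
theorem exists_third (hg : g ^ 3 = 1) :
    ∃ g' : G, Conf a ψ g' ∧ g' * ψ (T 1) * g'⁻¹ = a ∧ g' * ψ (T 24) * g'⁻¹ = ψ (T 24) := by
  classical
  have hback : g * ψ (T 1) * g⁻¹ = a := by
    have e : g ^ 3 * a * (g ^ 3)⁻¹ = a := by rw [hg, one_mul, inv_one, mul_one]
    rw [← D.two, ← D.one]
    rwa [show g ^ 3 = g * (g * g) by rw [pow_succ, pow_two, mul_assoc],
      show g * (g * g) * a * (g * (g * g))⁻¹ = g * (g * (g * a * g⁻¹) * g⁻¹) * g⁻¹ by group] at e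
  let Q := {i : Fin 30 // thirdQ i = true}
  have hstep : ∀ i : Q, ∃ j : Q, ψ (T j.1) = g * ψ (T i.1) * g⁻¹ := by
    rintro ⟨i, hi⟩
    simp only [thirdQ, Bool.and_eq_true, Bool.not_eq_true'] at hi
    obtain ⟨⟨h0, h1⟩, h18⟩ := hi
    have c0 : Commute (g * ψ (T i) * g⁻¹) (ψ (T 1)) :=
      (D.move_comm rfl D.two).2 ((D.com_iff' i 0).1 h0)
    have c1 : Commute (g * ψ (T i) * g⁻¹) a := (D.move_comm rfl hback).2 ((D.com_iff' i 1).1 h1)
    have cu : Commute (g * ψ (T i) * g⁻¹) (ψ (T 0)) :=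
      (D.move_comm rfl D.one).2 (D.commute_alpha (T i))
    have c18 : ¬ Commute (g * ψ (T i) * g⁻¹) (ψ (T 18)) := fun h => by
      have := (D.com_iff' i 18).2 ((D.move_comm rfl D.fix).1 h)
      rw [h18] at this
      exact Bool.false_ne_true this
    have hconj : IsConj a (g * ψ (T i) * g⁻¹) := by
      have hiq : IsConj a (ψ (T i)) := by
        obtain ⟨b1, b2, b3, hb⟩ := thirdQ_move i (by
          simp only [thirdQ, Bool.and_eq_true, Bool.not_eq_true']; exact ⟨⟨h0, h1⟩, h18⟩)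
        obtain ⟨k1, k2, hk⟩ := move_q
        let c : C0 := ⟨adjP b1 b2 b3, mem_C0 (adjP_facts b1 b2 b3).1 (adjP_facts b1 b2 b3).2.1⟩
        have e1 : c * T i * c⁻¹ = T 24 := by
          rw [show c * T i = T 24 * c from Subtype.ext hb, mul_inv_cancel_right]
        have e2 : T k1 * T k2 * T 18 * (T k1 * T k2)⁻¹ = T 24 := by
          rw [show T k1 * T k2 * T 18 = T 24 * (T k1 * T k2) from Subtype.ext hk, mul_inv_cancel_right]
        refine (D.conj_v.trans (isConj_iff.2 ⟨ψ (T k1 * T k2), ?_⟩)).trans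
          (isConj_iff.2 ⟨ψ c, ?_⟩ : IsConj (ψ (T i)) (ψ (T 24))).symm
        · rw [← map_inv, ← map_mul, ← map_mul, e2]
        · rw [← map_inv, ← map_mul, ← map_mul, e1]
      exact hiq.trans (isConj_iff.2 ⟨g, rfl⟩)
    rcases D.exists_of_conj c1 hconj with e | ⟨j, e⟩
    · exact absurd (e ▸ (D.commute_alpha (T 18)).symm) c18
    · refine ⟨⟨j, ?_⟩, e.symm⟩
      rw [e] at c0 cu c18
      simp only [thirdQ, Bool.and_eq_true, Bool.not_eq_true']
      exact ⟨⟨(D.com_iff' j 0).2 cu, (D.com_iff' j 1).2 c0⟩,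
        Bool.eq_false_iff.2 fun h => c18 ((D.com_iff' j 18).1 h)⟩
  choose σ hσ using hstep
  have hTinj : ∀ i j, ψ (T i) = ψ (T j) → i = j := fun i j h =>
    T_inj i j (congrArg Subtype.val (D.inj h))
  have hσinj : Function.Injective σ := fun i j h => Subtype.ext <| hTinj _ _ <| by
    have := (hσ i).symm.trans ((congrArg (fun q : Q => ψ (T q.1)) h).trans (hσ j))
    simpa using this
  let π : Equiv.Perm Q := Equiv.ofBijective σ (Finite.injective_iff_bijective.1 hσinj)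
  have h3 : π ^ 3 ^ 1 = 1 := by
    refine Equiv.ext fun i => Subtype.ext (hTinj _ _ ?_)
    change ψ (T (σ (σ (σ i))).1) = ψ (T i.1)
    rw [hσ, hσ, hσ, show g * (g * (g * ψ (T i.1) * g⁻¹) * g⁻¹) * g⁻¹ =
      g ^ 3 * ψ (T i.1) * (g ^ 3)⁻¹ by simp only [pow_three, mul_inv_rev, mul_assoc],
      hg, one_mul, inv_one, mul_one]
  have hcard : ¬ 3 ∣ Fintype.card Q := by
    rw [Fintype.card_subtype, thirdQ_card]
    decide
  have : Fact (Nat.Prime 3) := ⟨Nat.prime_three⟩
  obtain ⟨i, hi⟩ := Equiv.Perm.exists_fixed_point_of_prime hcard h3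
  have hfix : g * ψ (T i.1) * g⁻¹ = ψ (T i.1) := by
    rw [← hσ i]
    exact congrArg (fun q : Q => ψ (T q.1)) hi
  obtain ⟨b1, b2, b3, hb⟩ := thirdQ_move i.1 i.2
  obtain ⟨s1, s2, s3, s4, s5⟩ := adjP_facts b1 b2 b3
  set c : C0 := ⟨adjP b1 b2 b3, mem_C0 s1 s2⟩ with hc
  have q0 : c * T 0 * c⁻¹ = T 0 := by
    rw [show c * T 0 = T 0 * c from Subtype.ext s3, mul_inv_cancel_right]
  have q1 : c * T 1 * c⁻¹ = T 1 := by
    rw [show c * T 1 = T 1 * c from Subtype.ext s4, mul_inv_cancel_right]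
  have q18 : c * T 18 * c⁻¹ = T 18 := by
    rw [show c * T 18 = T 18 * c from Subtype.ext s5, mul_inv_cancel_right]
  have q24 : c * T i.1 * c⁻¹ = T 24 := by
    rw [show c * T i.1 = T 24 * c from Subtype.ext hb, mul_inv_cancel_right]
  have qa : c * alC * c⁻¹ = alC := by rw [(alC_central c).eq, mul_inv_cancel_right]
  have key : ∀ x y x' y' : C0, c * x * c⁻¹ = x' → c * y * c⁻¹ = y' → g * ψ x * g⁻¹ = ψ y →
      ψ c * g * (ψ c)⁻¹ * ψ x' * (ψ c * g * (ψ c)⁻¹)⁻¹ = ψ y' := by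
    rintro x y _ _ rfl rfl e
    simp only [map_mul, map_inv, ← e]
    group
  refine ⟨ψ c * g * (ψ c)⁻¹, ⟨D.inj, D.range, D.alpha, D.fus, ?_, key _ _ _ _ q0 q1 D.two,
    key _ _ _ _ q18 q18 D.fix⟩, ?_, key _ _ _ _ q24 q24 hfix⟩
  · have := key alC (T 0) _ _ qa q0 (D.alpha.symm ▸ D.one)
    rwa [D.alpha] at this
  · have := key (T 1) alC _ _ q1 qa (D.alpha.symm ▸ hback)
    rwa [D.alpha] at this

/-- The seventh node. -/
theorem exists_five (h1 : g * ψ (T 1) * g⁻¹ = a) (h24 : g * ψ (T 24) * g⁻¹ = ψ (T 24)) :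
    ∃ h : G, h * a * h⁻¹ = ψ (T 0) ∧ h * ψ (T 0) * h⁻¹ = ψ (T 1) ∧ h * ψ (T 1) * h⁻¹ = a ∧
      h * ψ (T 18) * h⁻¹ = ψ (T 18) ∧ h * ψ (T 24) * h⁻¹ = ψ (T 24) ∧
      Commute (h * ψ (T 8) * h⁻¹) (ψ (T 14)) := by
  obtain ⟨k, hk⟩ := isConj_iff.1 D.conj_v
  obtain ⟨fA, fB, fC, fr, fs⟩ := five_facts
  obtain ⟨t18, -, t0, t1, -, -⟩ := tau_facts
  have tr : ∀ x : G, Commute x (ψ (T 18)) → IsConj a x → x ≠ ψ (T 18) →
      ∃ i, ψ (T i) = k⁻¹ * x * k := by
    intro x hc hx hne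
    have hc' : Commute (k⁻¹ * x * k) a := by
      have := hc.map (MulAut.conj k⁻¹)
      simp only [MulAut.conj_apply, inv_inv] at this
      rwa [show k⁻¹ * ψ (T 18) * k = a by rw [← hk]; group] at this
    rcases D.exists_of_conj hc' (hx.trans (isConj_iff.2 ⟨k⁻¹, by rw [inv_inv]⟩)) with e | ⟨i, e⟩
    · refine absurd ?_ hne
      rw [← hk, ← e]
      group
    · exact ⟨i, e.symm⟩
  have trc : ∀ {x y : G} {i j : Fin 30}, ψ (T i) = k⁻¹ * x * k → ψ (T j) = k⁻¹ * y * k →
      (com i j = true ↔ Commute x y) := by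
    intro x y i j hi hj
    rw [D.com_iff', hi, hj]
    refine ⟨fun h => ?_, fun h => ?_⟩
    · have := h.map (MulAut.conj k)
      simp only [MulAut.conj_apply] at this
      rwa [show k * (k⁻¹ * x * k) * k⁻¹ = x by group, show k * (k⁻¹ * y * k) * k⁻¹ = y by group] at this
    · have := h.map (MulAut.conj k⁻¹)
      simpa only [MulAut.conj_apply, inv_inv] using this
  have hne : ∀ i : Fin 30, i ≠ 18 → ψ (T i) ≠ ψ (T 18) := fun i hi h =>
    hi (T_inj _ _ (congrArg Subtype.val (D.inj h)))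
  have ca : ∀ i, Commute (ψ (T i)) a := fun i => D.commute_alpha _
  have c0 : IsConj a (ψ (T 0)) := isConj_iff.2 ⟨g, D.one⟩
  have c1 : IsConj a (ψ (T 1)) := c0.trans (isConj_iff.2 ⟨g, D.two⟩)
  obtain ⟨A, hA⟩ := tr a (ca 18).symm (IsConj.refl a) fun e =>
    alC_ne_T 18 (congrArg Subtype.val (D.inj (D.alpha.trans e))).symm
  obtain ⟨B, hB⟩ := tr _ ((D.com_iff' 0 18).1 fA.1) c0 (hne 0 (by decide))
  obtain ⟨C, hC⟩ := tr _ ((D.com_iff' 1 18).1 fA.2.1) c1 (hne 1 (by decide))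
  obtain ⟨k1, k2, hk12⟩ := move_tau
  obtain ⟨l1, l2, hl12⟩ := move_four
  have cτ : IsConj a (ψ (T 8)) := c0.trans (isConj_iff.2 ⟨ψ (T k1 * T k2), by
    rw [← map_inv, ← map_mul, ← map_mul, show T k1 * T k2 * T 0 = T 8 * (T k1 * T k2) from Subtype.ext hk12,
      mul_inv_cancel_right]⟩)
  have c14 : IsConj a (ψ (T 14)) := c0.trans (isConj_iff.2 ⟨ψ (T l1 * T l2), by
    rw [← map_inv, ← map_mul, ← map_mul, show T l1 * T l2 * T 0 = T 14 * (T l1 * T l2) from Subtype.ext hl12,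
      mul_inv_cancel_right]⟩)
  set r := g * ψ (T 8) * g⁻¹ with hr
  have r18 : Commute r (ψ (T 18)) := (D.move_comm rfl D.fix).2 ((D.com_iff' 8 18).1 fr.1)
  have rB : Commute r (ψ (T 0)) := (D.move_comm rfl D.one).2 (ca 8)
  have rC : ¬ Commute r (ψ (T 1)) := fun h => by
    have := (D.com_iff' 8 0).2 ((D.move_comm rfl D.two).1 h)
    rw [fr.2.1] at this
    exact Bool.false_ne_true this
  have rA : ¬ Commute r a := fun h => by
    have := (D.com_iff' 8 1).2 ((D.move_comm rfl h1).1 h)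
    rw [fr.2.2] at this
    exact Bool.false_ne_true this
  obtain ⟨R, hR⟩ := tr r r18 (cτ.trans (isConj_iff.2 ⟨g, rfl⟩)) fun e =>
    rA (e ▸ ca 18)
  obtain ⟨X, hX⟩ := tr _ ((D.com_iff' 14 18).1 fs.1) c14 (hne 14 (by decide))
  have nf : ∀ {x y : G} {i j : Fin 30}, ψ (T i) = k⁻¹ * x * k → ψ (T j) = k⁻¹ * y * k →
      ¬ Commute x y → com i j = false := fun hi hj h =>
    Bool.eq_false_iff.2 fun e => h ((trc hi hj).1 e)
  obtain ⟨b0, b1, b2, hb⟩ := adjust ((trc hA hB).2 (ca 0).symm) ((trc hA hC).2 (ca 1).symm)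
    ((trc hB hC).2 ((D.com_iff' 0 1).1 fA.2.2)) ((trc hR hB).2 rB) (nf hR hA rA) (nf hR hC rC)
    ((trc hX hA).2 (ca 14))
    (nf hX hB fun h => by
      have := (D.com_iff' 14 0).2 h
      rw [fs.2.1] at this
      exact Bool.false_ne_true this)
    (nf hX hC fun h => by
      have := (D.com_iff' 14 1).2 h
      rw [fs.2.2] at this
      exact Bool.false_ne_true this)
  have happ : ∀ (b : Bool) {x y : G} {i j : Fin 30}, x * x = 1 → ψ (T i) = k⁻¹ * x * k →
      ψ (T j) = k⁻¹ * y * k → ψ (T (app b i j)) = k⁻¹ * (pick b x * y * (pick b x)⁻¹) * k := by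
    intro b x y i j hx hi hj
    cases b
    · simpa [pick, app] using hj
    · change ψ (T (cj i j)) = k⁻¹ * (x * y * x⁻¹) * k
      rw [← T_conj, map_mul, map_mul, hi, hj, inv_eq_of_mul_eq_one_left hx]
      group
  have sqT : ∀ i, ψ (T i) * ψ (T i) = 1 := fun i => by rw [← map_mul, T_sq, map_one]
  have sqa : a * a = 1 := by
    rw [← D.alpha, ← map_mul, show alC * alC = 1 from Subtype.ext al_facts.2, map_one]
  set E := pick b2 (ψ (T 1)) * pick b1 (ψ (T 0)) * pick b0 a with hE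
  have h := happ b2 (sqT 1) hC (happ b1 (sqT 0) hB (happ b0 sqa hA hR))
  have hfin := (trc h hX).1 hb
  have hEc : ∀ {y : G}, Commute a y → Commute (ψ (T 0)) y → Commute (ψ (T 1)) y → E * y * E⁻¹ = y := by
    intro y ha h0 h1
    rw [(((commute_pick h1 b2).mul_left (commute_pick h0 b1)).mul_left (commute_pick ha b0)).eq,
      mul_inv_cancel_right]
  have e01 : Commute (ψ (T 0)) (ψ (T 1)) := (D.com_iff' 0 1).1 fA.2.2
  have ea : E * a * E⁻¹ = a := hEc (Commute.refl a) (ca 0) (ca 1)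
  have e0 : E * ψ (T 0) * E⁻¹ = ψ (T 0) := hEc (ca 0).symm (Commute.refl _) e01.symm
  have e1 : E * ψ (T 1) * E⁻¹ = ψ (T 1) := hEc (ca 1).symm e01 (Commute.refl _)
  have e18 : E * ψ (T 18) * E⁻¹ = ψ (T 18) :=
    hEc (ca 18).symm ((D.com_iff' 0 18).1 fA.1) ((D.com_iff' 1 18).1 fA.2.1)
  have e24 : E * ψ (T 24) * E⁻¹ = ψ (T 24) :=
    hEc (ca 24).symm ((D.com_iff' 0 24).1 fB) ((D.com_iff' 1 24).1 fC)
  have hh : ∀ x : G, E * g * x * (E * g)⁻¹ = E * (g * x * g⁻¹) * E⁻¹ := fun x => by group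
  refine ⟨E * g, ?_, ?_, ?_, ?_, ?_, ?_⟩
  · rw [hh, D.one, e0]
  · rw [hh, D.two, e1]
  · rw [hh, h1, ea]
  · rw [hh, D.fix, e18]
  · rw [hh, h24, e24]
  · rw [hh, ← hr, hE]
    convert hfin using 1
    group

/-- The model of `Sp₆(2)` embeds. -/
theorem exists_hom (hg : g ^ 3 = 1) :
    ∃ f : S →* G, Function.Injective f ∧ f (node 6) = a ∧ f (node 1) = ψ (T 0) ∧ f (node 4) = ψ (T 1) ∧
      f (node 0) = ψ (T 18) := by
  obtain ⟨g', D', h1, h24⟩ := D.exists_third hg
  obtain ⟨h, ha, h0, h1', h18, h24', h14⟩ := D'.exists_five h1 h24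
  obtain ⟨t18, t24, t0, t1, tne1, -⟩ := tau_facts
  set m := h * ψ (T 8) * h⁻¹ with hm
  have hmap : ∀ x y : G, Commute x y → Commute (h * x * h⁻¹) (h * y * h⁻¹) := fun x y e => by
    simpa only [MulAut.conj_apply] using e.map (MulAut.conj h)
  have hbr : ∀ x y : G, x * y * x = y * x * y →
      h * x * h⁻¹ * (h * y * h⁻¹) * (h * x * h⁻¹) = h * y * h⁻¹ * (h * x * h⁻¹) * (h * y * h⁻¹) :=
    fun x y e => by simpa only [MulAut.conj_apply, map_mul] using congrArg (MulAut.conj h) e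
  have m18 : Commute m (ψ (T 18)) := by
    rw [← h18]
    exact hmap _ _ (D.commute_iff.2 (Subtype.ext t18))
  have m24 : Commute m (ψ (T 24)) := by
    rw [← h24']
    exact hmap _ _ (D.commute_iff.2 (Subtype.ext t24))
  have m0 : Commute m (ψ (T 0)) := by
    rw [← ha]
    exact hmap _ _ (D.commute_alpha _)
  have m1 : m * ψ (T 1) * m = ψ (T 1) * m * ψ (T 1) := by
    rw [← h0]
    refine hbr _ _ ?_
    rw [← map_mul, ← map_mul, ← map_mul, ← map_mul]
    exact congrArg ψ (Subtype.ext t0)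
  have ma : m * a * m = a * m * a := by
    rw [← h1']
    refine hbr _ _ ?_
    rw [← map_mul, ← map_mul, ← map_mul, ← map_mul]
    exact congrArg ψ (Subtype.ext t1)
  let n : Fin 7 → G := ![ψ (T 18), ψ (T 0), ψ (T 24), ψ (T 14), ψ (T 1), m, a]
  have hn : ∀ k : Fin 5, n (Fin.castLE (by norm_num) k) = ψ (T (nodeIdx k)) := by
    intro k
    fin_cases k <;> rfl
  have hsq : ∀ i, n i * n i = 1 := by
    have hT : ∀ j, ψ (T j) * ψ (T j) = 1 := fun j => by rw [← map_mul, T_sq, map_one]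
    intro i
    fin_cases i
    · exact hT 18
    · exact hT 0
    · exact hT 24
    · exact hT 14
    · exact hT 1
    · change h * ψ (T 8) * h⁻¹ * (h * ψ (T 8) * h⁻¹) = 1
      rw [show h * ψ (T 8) * h⁻¹ * (h * ψ (T 8) * h⁻¹) = h * (ψ (T 8) * ψ (T 8)) * h⁻¹ by group, hT,
        mul_one, mul_inv_cancel]
    · change a * a = 1
      rw [← D.alpha, ← map_mul, show alC * alC = 1 from Subtype.ext al_facts.2, map_one]
  have h7 : ∀ i : Fin 7, (∃ k : Fin 5, i = Fin.castLE (by norm_num) k) ∨ i = 5 ∨ i = 6 := by decide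
  obtain ⟨r55, r50, r51, r52, r53, r54, r56⟩ := rel_five
  have hsym : ∀ i j, CoxeterMatrix.E₇ i j = CoxeterMatrix.E₇ j i := fun i j =>
    CoxeterMatrix.symmetric _ i j
  have h5 : ∀ j, (CoxeterMatrix.E₇ 5 j = 2 → Commute m (n j)) ∧
      (CoxeterMatrix.E₇ 5 j = 3 → m * n j * m = n j * m * n j) := by
    intro j
    fin_cases j
    · exact ⟨fun _ => m18, fun e => absurd (e.symm.trans r50) (by decide)⟩
    · exact ⟨fun _ => m0, fun e => absurd (e.symm.trans r51) (by decide)⟩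
    · exact ⟨fun _ => m24, fun e => absurd (e.symm.trans r52) (by decide)⟩
    · exact ⟨fun _ => h14, fun e => absurd (e.symm.trans r53) (by decide)⟩
    · exact ⟨fun e => absurd (e.symm.trans r54) (by decide), fun _ => m1⟩
    · exact ⟨fun e => absurd (e.symm.trans r55) (by decide), fun e => absurd (e.symm.trans r55) (by decide)⟩
    · exact ⟨fun e => absurd (e.symm.trans r56) (by decide), fun _ => ma⟩
  have hrel : ∀ i j, (CoxeterMatrix.E₇ i j = 2 → Commute (n i) (n j)) ∧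
      (CoxeterMatrix.E₇ i j = 3 → n i * n j * n i = n j * n i * n j) := by
    intro i j
    rcases h7 i with ⟨k, rfl⟩ | rfl | rfl
    · rcases h7 j with ⟨l, rfl⟩ | rfl | rfl
      · rw [hn, hn]
        refine ⟨fun e => D.commute_iff.2 (Subtype.ext ((rel_nodes k l).1 e)), fun e => ?_⟩
        rw [← map_mul, ← map_mul, ← map_mul, ← map_mul]
        exact congrArg ψ (Subtype.ext ((rel_nodes k l).2 e))
      · rw [hsym]
        exact ⟨fun e => ((h5 _).1 e).symm, fun e => ((h5 _).2 e).symm⟩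
      · rw [hn]
        exact ⟨fun _ => D.commute_alpha _, fun e => absurd (e.symm.trans (rel_alpha k).1) (by decide)⟩
    · exact h5 j
    · rcases h7 j with ⟨l, rfl⟩ | rfl | rfl
      · rw [hn]
        exact ⟨fun _ => (D.commute_alpha _).symm, fun e => absurd (e.symm.trans (rel_alpha l).2) (by decide)⟩
      · rw [hsym]
        exact ⟨fun e => ((h5 _).1 e).symm, fun e => ((h5 _).2 e).symm⟩
      · exact ⟨fun _ => Commute.refl _, fun _ => rfl⟩
  have hne : ¬ Commute (n 0) (n 2) := by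
    intro e
    have := (com_iff 18 24).2 (D.commute_iff.1 e)
    rw [five_ne] at this
    exact Bool.false_ne_true this
  have hc : ∀ z ∈ Subgroup.closure (Set.range n), z * z = 1 → (∀ i, Commute z (n i)) → z = 1 := by
    intro z _ hz hzn
    have hza : Commute z a := hzn 6
    obtain ⟨c, rfl⟩ : z ∈ ψ.range := D.range ▸ Subgroup.mem_centralizer_singleton_iff.2 hza.eq
    rcases cent_nodes c (fun k => D.commute_iff.1 (hn k ▸ hzn _)) with rfl | rfl
    · exact map_one ψ
    · exfalso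
      have e5 : Commute a m := D.alpha ▸ hzn 5
      have hma : m = a := by
        have h2 := ma
        rw [← e5.eq, mul_assoc a m m] at h2
        rw [show m * m = 1 from hsq 5, mul_one, e5.eq, mul_assoc m a a, show a * a = 1 from hsq 6,
          mul_one] at h2
        exact h2.symm
      refine tne1 (congrArg Subtype.val (D.inj (?_ : ψ (T 8) = ψ (T 1))))
      have e2 : h * ψ (T 8) * h⁻¹ = h * ψ (T 1) * h⁻¹ := hma.trans h1'.symm
      exact mul_left_cancel (mul_right_cancel e2)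
  obtain ⟨f, hf, hfn⟩ := exists_model_hom n hsq (fun i j => (hrel i j).1) (fun i j => (hrel i j).2) hne hc
  exact ⟨f, hf, hfn 6, hfn 1, hfn 4, hfn 0⟩

end Conf

end Cfsg.Agent.AltTwelve.Sp
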