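import Cfsg.Agent.Lib.AltTwelve.Sp.Endgame
import Cfsg.Agent.Lib.AltTwelve.Sp.Embed
import Cfsg.Agent.Lib.SpSix.ModelE7

/-!
# The branch `Sp₆(2)`
-/

set_option autoImplicit false
set_option maxRecDepth 100000

namespace Cfsg.Agent.AltTwelve.Sp

open Cfsg.Agent.SpThreeCent.SixEnd

universe u

theorem card_stab : Nat.card (MulAction.stabilizer S (8 : Fin 64)) = 23040 := by
  have horb : MulAction.orbit S (8 : Fin 64) = {y | y ≠ 0} := by
    ext y
    constructor
    · rintro ⟨s, rfl⟩ h
      change (s : Equiv.Perm (Fin 64)) 8 = 0 at h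
      exact absurd ((Equiv.injective _) (h.trans (S_zero s).symm)) (by decide)
    · intro hy
      obtain ⟨x1, x2, h⟩ := point_orbit y hy
      exact ⟨tvS x1 * tvS x2, h⟩
  have h1 : (MulAction.stabilizer S (8 : Fin 64)).index = 63 := by
    rw [MulAction.index_stabilizer, horb, show {y : Fin 64 | y ≠ 0} = ({0} : Set (Fin 64))ᶜ from rfl,
      Set.ncard_compl, Set.ncard_singleton, Nat.card_eq_fintype_card, Fintype.card_fin]
  have := Subgroup.card_mul_index (MulAction.stabilizer S (8 : Fin 64))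
  rw [h1, card_S] at this
  omega

theorem rep_three : clsC (mulC (mulC (tvC 8) (tvC 16)) (tvC 32)) = 3 ∧
    mulC (mulC (mulC (tvC 8) (tvC 16)) (tvC 32)) (mulC (mulC (tvC 8) (tvC 16)) (tvC 32)) = oneC := by
  decide +kernel

attribute [local irreducible] tP al

variable {G : Type u} [Group G] [Finite G] {a g : G} {ψ : C0 →* G}

/-- The hypothesis of the endgame. -/
theorem Conf.hyp (D : Conf a ψ g) {f : S →* G} (hf : Function.Injective f) (h6 : f (node 6) = a)
    (h1 : f (node 1) = ψ (T 0)) (h4 : f (node 4) = ψ (T 1)) (h0 : f (node 0) = ψ (T 18)) : Hyp f := by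
  have e8 : f (tvS 8) = a := h6
  have e16 : f (tvS 16) = ψ (T 0) := h1
  have e24 : f (tvS 24) = ψ (T 1) := h4
  have e32 : f (tvS 32) = ψ (T 18) := h0
  refine ⟨hf, fun x hx => ?_, fun s hs => ?_⟩
  · have hle : (MulAction.stabilizer S (8 : Fin 64)).map f = Subgroup.centralizer ({a} : Set G) := by
      refine Subgroup.eq_of_le_of_card_ge ?_ ?_
      · rintro _ ⟨s, hs, rfl⟩
        refine Subgroup.mem_centralizer_singleton_iff.2 ?_
        have h := tvS_conj s 8
        rw [show (s : Equiv.Perm (Fin 64)) 8 = 8 from hs] at h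
        rw [← e8, ← map_mul, ← map_mul, mul_inv_eq_iff_eq_mul.1 h]
      · rw [← D.range, ← Nat.card_congr (MonoidHom.ofInjective D.inj).toEquiv,
          Subgroup.card_map_of_injective hf, card_stab]
        exact card_C0
    have hm : x ∈ Subgroup.centralizer ({a} : Set G) :=
      Subgroup.mem_centralizer_singleton_iff.2 (e8 ▸ hx).eq
    rw [← hle] at hm
    obtain ⟨t, -, e⟩ := hm
    exact ⟨t, e⟩
  · have hs2 : s * s = 1 := hf (by
      obtain ⟨c, hc⟩ := isConj_iff.1 hs
      rw [map_mul, map_one, ← hc, show c * f (tvS 8) * c⁻¹ * (c * f (tvS 8) * c⁻¹) =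
        c * (f (tvS 8) * f (tvS 8)) * c⁻¹ by group, ← map_mul, tvS_sq, map_one, mul_one, mul_inv_cancel])
    have hs1 : s ≠ 1 := fun e => by
      rw [e, map_one] at hs
      have : tvS 8 = 1 := hf ((isConj_one_left.1 hs).trans (map_one f).symm)
      exact rep_ne_one 0 this
    obtain ⟨k, i, hi, hk⟩ := exists_rep_cls hs2 hs1
    have key : ∀ (x : S) (c : C0), f x = ψ c → clsC (codeS x) = i.val → x * x = 1 → x ≠ 1 →
        (∀ j, c ≠ T j) → c ≠ alC → False := by
      intro x c hx hcls hx2 hx1 hT hal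
      obtain ⟨l, j, hj, hl⟩ := exists_rep_cls hx2 hx1
      obtain rfl : j = i := Fin.ext (hj.trans hcls)
      have h : IsConj a (ψ c) := by
        rw [← e8, ← hx]
        refine hs.trans (isConj_iff.2 ⟨f (l * k⁻¹), ?_⟩)
        rw [← map_inv, ← map_mul, ← map_mul, ← hk, ← hl]
        congr 1
        group
      rcases D.fus c h with e | ⟨j', e⟩
      exacts [hal e, hT j' e]
    obtain ⟨n0, n0', n1, n1', n2, n2'⟩ := rep_facts
    fin_cases i
    · refine ⟨(k : Equiv.Perm (Fin 64)) 8, apply_ne_zero k (by decide), ?_⟩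
      rw [← tvS_conj, ← hk]
      rfl
    · exfalso
      refine key (rep 1) (alC * T 0) ?_ ?_ (rep_sq 1) (rep_ne_one 1)
        (fun j e => n0 j (congrArg Subtype.val e)) (fun e => n0' (congrArg Subtype.val e))
      · rw [map_mul, D.alpha, ← e8, ← e16, ← map_mul]
        rfl
      · have := clsC_conj_rep 1 1
        rwa [one_mul, inv_one, mul_one] at this
    · exfalso
      refine key (rep 2) (alC * T 0 * T 1) ?_ ?_ (rep_sq 2) (rep_ne_one 2)
        (fun j e => n1 j (congrArg Subtype.val e)) (fun e => n1' (congrArg Subtype.val e))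
      · rw [map_mul, map_mul, D.alpha, ← e8, ← e16, ← e24, ← map_mul, ← map_mul]
        rfl
      · have := clsC_conj_rep 1 2
        rwa [one_mul, inv_one, mul_one] at this
    · exfalso
      obtain ⟨c3, c3'⟩ := rep_three
      have hcode : codeS (tvS 8 * tvS 16 * tvS 32) = mulC (mulC (tvC 8) (tvC 16)) (tvC 32) := by
        rw [codeS_mul, codeS_mul, codeS_tvS, codeS_tvS, codeS_tvS]
        rfl
      refine key (tvS 8 * tvS 16 * tvS 32) (alC * T 0 * T 18) ?_ ?_ ?_ ?_
        (fun j e => n2 j (congrArg Subtype.val e)) (fun e => n2' (congrArg Subtype.val e))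
      · rw [map_mul, map_mul, map_mul, map_mul, D.alpha, e8, e16, e32]
      · rw [hcode]
        exact c3
      · exact codeS_injective (by rw [codeS_mul, hcode, codeS_one]; exact c3')
      · intro e
        rw [← hcode, e, codeS_one, clsC_one] at c3
        omega

/-- With thirty-one conjugates of the involution in its centralizer and an element of order three permuting
a line, the group is `Sp₆(2)`. -/
theorem sp_branch (a : G) (ψ : C0 →* G) (hψ : Function.Injective ψ)
    (hrange : ψ.range = Subgroup.centralizer ({a} : Set G)) (hα : ψ alC = a)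
    (hD : ∀ c : C0, IsConj a (ψ c) → c = alC ∨ ∃ i, c = T i) (g : G) (hg : g ^ 3 = 1)
    (h1 : g * a * g⁻¹ = ψ (T 0)) (h2 : g * ψ (T 0) * g⁻¹ = ψ (T 1))
    (h3 : g * ψ (T 18) * g⁻¹ = ψ (T 18)) :
    ∃ (F : Type) (_ : Field F) (_ : Fintype F), Fintype.card F = 2 ∧ Nonempty (G ≃* Cfsg.PSp 3 F) := by
  have D : Conf a ψ g := ⟨hψ, hrange, hα, hD, h1, h2, h3⟩
  obtain ⟨f, hf, h6, hn1, h4, h0⟩ := D.exists_hom hg
  have hsur := (D.hyp hf h6 hn1 h4 h0).surjective
  have hF : Fintype.card (ZMod 2) = 2 := ZMod.card 2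
  obtain ⟨e⟩ : Nonempty (G ≃* Matrix.symplecticGroup (Fin 3) (ZMod 2)) := by
    refine SpSix.exists_equiv_of_rels hF (fun i => f (node i))
      (fun i => by rw [← map_mul, node_sq, map_one])
      (fun i j h => (node_comm h).map f)
      (fun i j h => by rw [← map_mul, ← map_mul, ← map_mul, ← map_mul, node_braid h]) ?_ ?_
    · rw [eq_top_iff]
      intro x _
      obtain ⟨s, rfl⟩ := hsur x
      have h : (Subgroup.closure (Set.range node)).map f = Subgroup.closure (Set.range fun i => f (node i)) := by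
        rw [MonoidHom.map_closure, ← Set.range_comp]
        rfl
      rw [← h, closure_range_node]
      exact ⟨s, Subgroup.mem_top _, rfl⟩
    · rw [← Nat.card_congr (MulEquiv.ofBijective f ⟨hf, hsur⟩).toEquiv]
      exact card_S
  exact ⟨ZMod 2, inferInstance, inferInstance, hF, ⟨e.trans (QuotientGroup.quotientBot.symm.trans
    (QuotientGroup.quotientMulEquivOfEq (SpSix.center_eq_bot hF).symm))⟩⟩

end Cfsg.Agent.AltTwelve.Sp
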