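import Cfsg.Agent.Lib.SpThreeCent.SixEnd.Engine
import Cfsg.Agent.Lib.ZStar.InvariantSylow
import Cfsg.Agent.Lib.Coprime.Generation

/-!
# `Sp₆(2)` inside a finite group with the centralizer of a transvection

If the centralizer of a transvection of an embedded `Sp₆(2)` lies inside and the only elements of the image
conjugate to it are transvections, the image is everything.

The transvection `t₂₄` is isolated in the centralizer of `t₈ t₁₆`, so the `Z*`-theorem leaves only the odd
core to be placed; it is generated by the centralizers of the hyperplanes of the group generated by the seven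
transvections of a Lagrangian, and each hyperplane contains one of them.
-/

set_option autoImplicit false
set_option maxRecDepth 100000
set_option linter.unusedSectionVars false

namespace Cfsg.Agent.AltTwelve.Sp

open Cfsg.Agent.SpThreeCent.SixEnd

universe u

/-- The hypothesis of the endgame. -/
structure Hyp {G : Type u} [Group G] (f : S →* G) : Prop where
  inj : Function.Injective f
  /-- the centralizer of a transvection lies inside -/
  cent : ∀ g : G, Commute g (f (tvS 8)) → g ∈ f.range
  /-- the conjugates inside of a transvection are transvections -/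
  conj : ∀ s : S, IsConj (f (tvS 8)) (f s) → ∃ x : Fin 64, x ≠ 0 ∧ s = tvS x

/-- The seven points of a Lagrangian. -/
def lagr : Fin 7 → Fin 64 := ![8, 16, 24, 32, 40, 48, 56]

theorem lagr_facts : (∀ i j, bil (lagr i) (lagr j) = false) ∧ (∀ i, lagr i ≠ 0) := by decide

theorem lagr_prod : tvS 8 * tvS 16 * tvS 24 * tvS 32 * tvS 40 * tvS 48 * tvS 56 = 1 := by
  refine codeS_injective ?_
  simp only [codeS_mul, codeS_tvS, codeS_one]
  decide +kernel

theorem pair_fix : ∀ a b : Fin 64, mulC (tvC a.val) (tvC b.val) = mulC (tvC 8) (tvC 16) →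
    a ≠ 0 → b ≠ 0 → vadd a b = 24 := by
  decide +kernel

theorem cls_facts :
    clsC (mulC (tvC 8) (mulC (mulC (tvC 8) (tvC 16)) (tvC 24))) = 1 ∧
    clsC (mulC (tvC 32) (mulC (mulC (tvC 8) (tvC 16)) (tvC 24))) = 3 ∧
    clsC (mulC (tvC 8) (mulC (mulC (tvC 8) (tvC 16)) (tvC 20))) = 1 ∧
    clsC (mulC (tvC 24) (mulC (mulC (tvC 8) (tvC 16)) (tvC 20))) = 3 ∧
    commC (tvC 8) (mulC (mulC (tvC 8) (tvC 16)) (tvC 24)) = true ∧
    commC (tvC 32) (mulC (mulC (tvC 8) (tvC 16)) (tvC 24)) = true ∧
    commC (tvC 8) (mulC (mulC (tvC 8) (tvC 16)) (tvC 20)) = true ∧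
    commC (tvC 24) (mulC (mulC (tvC 8) (tvC 16)) (tvC 20)) = true ∧
    (∀ i : Fin 7, commC (tvC (lagr i).val) (mulC (tvC 8) (tvC 16)) = true) := by
  decide +kernel

theorem tvS_sq (x : Fin 64) : tvS x * tvS x = 1 := Subtype.ext (Equiv.ext (tvFun_invol x))

theorem rep_sq (i : Fin 4) : rep i * rep i = 1 := by
  refine codeS_injective ?_
  rw [codeS_mul, codeS_rep, codeS_one]
  revert i
  decide +kernel

theorem rep_ne_one (i : Fin 4) : rep i ≠ 1 := fun h => by
  have := clsC_conj_rep 1 i
  rw [h, mul_one, mul_inv_cancel, codeS_one, clsC_one] at this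
  omega

theorem cls_tvS {x : Fin 64} (hx : x ≠ 0) : clsC (codeS (tvS x)) = 0 := by
  have := List.all_eq_true.1 invT_ok _ (one_mem_invT hx)
  simp only [Bool.and_eq_true, beq_iff_eq] at this
  exact this.1

theorem exists_conj_tvS {x : Fin 64} (hx : x ≠ 0) : ∃ k : S, k * tvS 8 * k⁻¹ = tvS x := by
  obtain ⟨a, b, h⟩ := point_orbit x hx
  exact ⟨tvS a * tvS b, by rw [tvS_conj]; exact congrArg tvS h⟩

variable {G : Type u} [Group G] {f : S →* G}

theorem isConj_tvS (f : S →* G) {x : Fin 64} (hx : x ≠ 0) : IsConj (f (tvS 8)) (f (tvS x)) := by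
  obtain ⟨k, hk⟩ := exists_conj_tvS hx
  exact isConj_iff.2 ⟨f k, by rw [← map_inv, ← map_mul, ← map_mul, hk]⟩

namespace Hyp

variable (D : Hyp f)
include D

theorem mem_of_comm {x : Fin 64} (hx : x ≠ 0) {g : G} (h : Commute g (f (tvS x))) : g ∈ f.range := by
  obtain ⟨k, hk⟩ := exists_conj_tvS hx
  have h8 : Commute ((f k)⁻¹ * g * f k) (f (tvS 8)) := by
    have := h.map (MulAut.conj (f k)⁻¹).toMonoidHom
    simp only [MulEquiv.coe_toMonoidHom, MulAut.conj_apply, inv_inv] at this
    rwa [show (f k)⁻¹ * f (tvS x) * f k = f (tvS 8) by rw [← hk, map_mul, map_mul, map_inv]; group] at this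
  have := mul_mem (mul_mem (⟨k, rfl⟩ : f k ∈ f.range) (D.cent _ h8)) (inv_mem (⟨k, rfl⟩ : f k ∈ f.range))
  rwa [show f k * ((f k)⁻¹ * g * f k) * (f k)⁻¹ = g by group] at this

theorem move {x : Fin 64} (hx : x ≠ 0) {g : G} (h : g * f (tvS x) * g⁻¹ ∈ f.range) : g ∈ f.range := by
  obtain ⟨s, hs⟩ := h
  obtain ⟨y, hy, rfl⟩ := D.conj s ((isConj_tvS f hx).trans (isConj_iff.2 ⟨g, hs.symm⟩))
  obtain ⟨k, hk⟩ := exists_conj_tvS hx
  obtain ⟨l, hl⟩ := exists_conj_tvS hy
  have hc : Commute ((f (l * k⁻¹))⁻¹ * g) (f (tvS x)) := by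
    have e : f (l * k⁻¹) * f (tvS x) * (f (l * k⁻¹))⁻¹ = f (tvS y) := by
      rw [← map_inv, ← map_mul, ← map_mul, ← hk, ← hl]
      congr 1
      group
    rw [Commute, SemiconjBy, ← mul_inv_eq_iff_eq_mul]
    rw [show (f (l * k⁻¹))⁻¹ * g * f (tvS x) * ((f (l * k⁻¹))⁻¹ * g)⁻¹ =
      (f (l * k⁻¹))⁻¹ * (g * f (tvS x) * g⁻¹) * f (l * k⁻¹) by group, ← hs, ← e]
    group
  have := mul_mem (⟨l * k⁻¹, rfl⟩ : f (l * k⁻¹) ∈ f.range) (D.mem_of_comm hx hc)
  rwa [mul_inv_cancel_left] at this

/-- An odd subgroup normalised by the seven transvections lies inside. -/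
theorem odd_le [Finite G] {O : Subgroup G} (hO : Odd (Nat.card O))
    (hn : ∀ i, f (tvS (lagr i)) ∈ Subgroup.normalizer (O : Set G)) : O ≤ f.range := by
  set A := Subgroup.closure (Set.range fun i => f (tvS (lagr i))) with hA
  have hmem : ∀ i, f (tvS (lagr i)) ∈ A := fun i => Subgroup.subset_closure ⟨i, rfl⟩
  have hAn : A ≤ Subgroup.normalizer (O : Set G) :=
    (Subgroup.closure_le _).2 (by rintro _ ⟨i, rfl⟩; exact hn i)
  have hcom : ∀ a ∈ A, ∀ i, Commute a (f (tvS (lagr i))) := by
    intro a ha i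
    induction ha using Subgroup.closure_induction with
    | mem x hx => obtain ⟨j, rfl⟩ := hx; exact (comm_of_bil (lagr_facts.1 j i)).map f
    | one => exact Commute.one_left _
    | mul x y _ _ hx hy => exact hx.mul_left hy
    | inv x _ hx => exact hx.inv_left
  have hab : ∀ a ∈ A, ∀ b ∈ A, Commute a b := by
    intro a ha b hb
    induction hb using Subgroup.closure_induction with
    | mem x hx => obtain ⟨j, rfl⟩ := hx; exact hcom a ha j
    | one => exact Commute.one_right _
    | mul x y _ _ hx hy => exact hx.mul_right hy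
    | inv x _ hx => exact hx.inv_right
  have hsq : ∀ a ∈ A, a * a = 1 := by
    intro a ha
    induction ha using Subgroup.closure_induction with
    | mem x hx => obtain ⟨j, rfl⟩ := hx; rw [← map_mul, tvS_sq, map_one]
    | one => rw [one_mul]
    | mul x y hx' hy' hx hy =>
      rw [show x * y * (x * y) = x * (y * x) * y by group, (hab y hy' x hx').eq,
        show x * (x * y) * y = x * x * (y * y) by group, hx, hy, one_mul]
    | inv x _ hx => rw [← mul_inv_rev, hx, inv_one]
  have key : ∀ n : ℕ, ∀ U ≤ A, Nat.card A ≤ n + Nat.card U →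
      O ⊓ Subgroup.centralizer (U : Set G) ≤ f.range := by
    intro n
    induction n using Nat.strong_induction_on with
    | h n ih =>
      intro U hU hcard
      by_cases hd : ∃ i, f (tvS (lagr i)) ∈ U
      · obtain ⟨i, hi⟩ := hd
        exact fun g hg => D.mem_of_comm (lagr_facts.2 i) (Subgroup.mem_centralizer_iff.1 hg.2 _ hi).symm
      push Not at hd
      obtain ⟨b1, hb1, hb1U⟩ : ∃ b ∈ A, b ∉ U := ⟨_, hmem 0, hd 0⟩
      set V := U ⊔ Subgroup.zpowers b1 with hV
      obtain ⟨b2, hb2, hb2V⟩ : ∃ b ∈ A, b ∉ V := by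
        by_contra! hall
        have hmul : ∀ x y : G, x ∈ A → x ∉ U → y ∈ A → y ∉ U → x * y ∈ U := by
          have hform : ∀ x : G, x ∈ A → x ∉ U → x * b1 ∈ U := by
            intro x hx hxU
            have hn' : Subgroup.zpowers b1 ≤ Subgroup.normalizer (U : Set G) := by
              refine Subgroup.zpowers_le.2 (Subgroup.mem_normalizer_iff.2 fun u => ⟨fun hu => ?_, fun hu => ?_⟩)
              · rwa [(hab b1 hb1 u (hU hu)).eq, mul_inv_cancel_right]
              · have hu' : u ∈ A := by
                  have := mul_mem (mul_mem (inv_mem hb1) (hU hu)) hb1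
                  rwa [show b1⁻¹ * (b1 * u * b1⁻¹) * b1 = u by group] at this
                rwa [(hab b1 hb1 u hu').eq, mul_inv_cancel_right] at hu
            have hxV : x ∈ ((U ⊔ Subgroup.zpowers b1 : Subgroup G) : Set G) := hall x hx
            rw [Subgroup.coe_mul_of_right_le_normalizer_left U _ hn'] at hxV
            obtain ⟨u, hu, z, hz, rfl⟩ := hxV
            obtain ⟨k, rfl⟩ := Subgroup.mem_zpowers_iff.1 hz
            have h2 : b1 ^ (2 : ℤ) = 1 := by rw [zpow_two]; exact hsq b1 hb1
            rcases Int.even_or_odd k with ⟨m, rfl⟩ | ⟨m, rfl⟩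
            · refine absurd ?_ hxU
              change u * b1 ^ (m + m) ∈ U
              rwa [show m + m = 2 * m by ring, zpow_mul, h2, one_zpow, mul_one]
            · change u * b1 ^ (2 * m + 1) * b1 ∈ U
              rwa [zpow_add, zpow_mul, h2, one_zpow, one_mul, zpow_one, mul_assoc, hsq b1 hb1, mul_one]
          intro x y hx hxU hy hyU
          have := mul_mem (hform x hx hxU) (hform y hy hyU)
          rwa [(hab x hx b1 hb1).eq, show b1 * x * (y * b1) = b1 * (x * y) * b1 by group,
            (hab b1 hb1 (x * y) (mul_mem hx hy)).eq, mul_assoc, hsq b1 hb1, mul_one] at this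
        have h6 := mul_mem (mul_mem (hmul _ _ (hmem 0) (hd 0) (hmem 1) (hd 1))
          (hmul _ _ (hmem 2) (hd 2) (hmem 3) (hd 3))) (hmul _ _ (hmem 4) (hd 4) (hmem 5) (hd 5))
        refine hd 6 ?_
        have e := congrArg f lagr_prod
        simp only [map_mul, map_one] at e
        change f (tvS 56) ∈ U
        rw [eq_inv_of_mul_eq_one_right e]
        refine inv_mem ?_
        rw [show lagr 0 = 8 from rfl, show lagr 1 = 16 from rfl, show lagr 2 = 24 from rfl,
          show lagr 3 = 32 from rfl, show lagr 4 = 40 from rfl, show lagr 5 = 48 from rfl] at h6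
        simpa only [mul_assoc] using h6
      set B := Subgroup.closure ({b1, b2} : Set G) with hB
      have hBA : B ≤ A := (Subgroup.closure_le _).2 (by rintro x (rfl | rfl) <;> assumption)
      have hb1B : b1 ∈ B := Subgroup.subset_closure (Set.mem_insert _ _)
      have hb2B : b2 ∈ B := Subgroup.subset_closure (Set.mem_insert_of_mem _ rfl)
      have : IsMulCommutative B :=
        IsMulCommutative.of_comm fun a b => Subtype.ext (hab _ (hBA a.2) _ (hBA b.2)).eq
      have hnc : ¬ IsCyclic B := by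
        intro hc
        obtain ⟨c, hc⟩ := IsCyclic.exists_generator (α := B)
        have hc2 : ∀ x : B, x = 1 ∨ x = c := by
          intro x
          obtain ⟨k, rfl⟩ := Subgroup.mem_zpowers_iff.1 (hc x)
          have h2 : c ^ (2 : ℤ) = 1 := Subtype.ext (by rw [zpow_two]; exact hsq _ (hBA c.2))
          rcases Int.even_or_odd k with ⟨m, rfl⟩ | ⟨m, rfl⟩
          · exact Or.inl (by rw [show m + m = 2 * m by ring, zpow_mul, h2, one_zpow])
          · exact Or.inr (by rw [zpow_add, zpow_mul, h2, one_zpow, one_mul, zpow_one])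
        rcases hc2 ⟨b1, hb1B⟩ with h1 | h1
        · exact hb1U (by rw [show b1 = 1 from congrArg Subtype.val h1]; exact one_mem _)
        rcases hc2 ⟨b2, hb2B⟩ with h2 | h2
        · exact hb2V (by rw [show b2 = 1 from congrArg Subtype.val h2]; exact one_mem _)
        · rw [← h1] at h2
          exact hb2V (Subgroup.mem_sup_right (by
            rw [show b2 = b1 from congrArg Subtype.val h2]; exact Subgroup.mem_zpowers _))
      set K := O ⊓ Subgroup.centralizer (U : Set G) with hK
      have hBK : B ≤ Subgroup.normalizer (K : Set G) := by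
        intro b hb
        refine Subgroup.mem_normalizer_iff.2 fun x => ?_
        have hn' := (Subgroup.mem_normalizer_iff.1 (hAn (hBA hb))) x
        refine ⟨fun hx => ⟨hn'.1 hx.1, ?_⟩, fun hx => ⟨hn'.2 hx.1, ?_⟩⟩
        · refine Subgroup.mem_centralizer_iff.2 fun u hu => ?_
          have h1 := hab b (hBA hb) u (hU hu)
          have h2 : Commute x u := (Subgroup.mem_centralizer_iff.1 hx.2 u hu).symm
          exact ((h1.mul_left h2).mul_left h1.inv_left).symm.eq
        · refine Subgroup.mem_centralizer_iff.2 fun u hu => ?_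
          have h1 := hab b (hBA hb) u (hU hu)
          have h2 : Commute (b * x * b⁻¹) u := (Subgroup.mem_centralizer_iff.1 hx.2 u hu).symm
          have h3 := (h1.inv_left.mul_left h2).mul_left h1
          rw [show b⁻¹ * (b * x * b⁻¹) * b = x by group] at h3
          exact h3.symm.eq
      have hcop : (Nat.card B).Coprime (Nat.card K) := by
        have h2 : IsPGroup 2 B := fun b => ⟨1, Subtype.ext (by
          simpa [pow_two] using hsq _ (hBA b.2))⟩
        obtain ⟨m, hm⟩ := h2.exists_card_eq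
        rw [hm]
        exact Nat.Coprime.pow_left _ (Nat.coprime_two_left.2
          (hO.of_dvd_nat (Subgroup.card_dvd_of_le inf_le_left)))
      change K ≤ f.range
      rw [← Coprime.fixedGen_eq hnc hBK hcop]
      refine iSup₂_le fun b hb => ?_
      obtain ⟨hbB, hb1'⟩ := hb
      by_cases hbU : b ∈ U
      · refine absurd hbU ?_
        have hBform : ∀ x ∈ B, x = 1 ∨ x = b1 ∨ x = b2 ∨ x = b1 * b2 := by
          intro x hx
          induction hx using Subgroup.closure_induction with
          | mem y hy =>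
            rcases hy with rfl | rfl
            exacts [Or.inr (Or.inl rfl), Or.inr (Or.inr (Or.inl rfl))]
          | one => exact Or.inl rfl
          | mul x y _ _ hx hy =>
            have e1 := hsq b1 hb1
            have e2 := hsq b2 hb2
            have e3 : b2 * b1 = b1 * b2 := (hab b2 hb2 b1 hb1).eq
            have e4 : ∀ z, b1 * (b1 * z) = z := fun z => by rw [← mul_assoc, e1, one_mul]
            have e6 : ∀ z, b2 * (b1 * z) = b1 * (b2 * z) := fun z => by rw [← mul_assoc, e3, mul_assoc]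
            rcases hx with rfl | rfl | rfl | rfl <;> rcases hy with rfl | rfl | rfl | rfl <;>
              simp [mul_assoc, e1, e2, e3, e4, e6]
          | inv x hx' hx => rwa [inv_eq_of_mul_eq_one_left (hsq x (hBA hx'))]
        rcases hBform b hbB with rfl | rfl | rfl | rfl
        · exact absurd rfl hb1'
        · exact hb1U
        · exact fun h => hb2V (Subgroup.mem_sup_left h)
        · intro h
          refine hb2V ?_
          have := mul_mem (Subgroup.mem_sup_right (S := U) (Subgroup.mem_zpowers b1)) (Subgroup.mem_sup_left h)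
          rwa [← mul_assoc, hsq b1 hb1, one_mul] at this
      set W := U ⊔ Subgroup.zpowers b with hW
      have hWA : W ≤ A := sup_le hU (Subgroup.zpowers_le.2 (hBA hbB))
      have hlt : Nat.card U < Nat.card W := by
        refine lt_of_le_of_ne (Subgroup.card_le_of_le le_sup_left) fun h => hbU ?_
        rw [Subgroup.eq_of_le_of_card_ge le_sup_left h.ge]
        exact Subgroup.mem_sup_right (Subgroup.mem_zpowers b)
      have hWle : Nat.card W ≤ Nat.card A := Subgroup.card_le_of_le hWA
      refine le_trans ?_ (ih (Nat.card A - Nat.card W) (by omega) W hWA (by omega))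
      intro g hg
      refine ⟨hg.1.1, Subgroup.mem_centralizer_iff.2 fun w hw => ?_⟩
      have hle : W ≤ Subgroup.centralizer ({g} : Set G) := sup_le
        (fun u hu => Subgroup.mem_centralizer_singleton_iff.2 (Subgroup.mem_centralizer_iff.1 hg.1.2 u hu))
        (Subgroup.zpowers_le.2 (Subgroup.mem_centralizer_singleton_iff.2
          (Subgroup.mem_centralizer_singleton_iff.1 hg.2).symm))
      exact Subgroup.mem_centralizer_singleton_iff.1 (hle hw)
  intro g hg
  refine key (Nat.card A) ⊥ bot_le (by omega) ⟨hg, Subgroup.mem_centralizer_iff.2 fun x hx => ?_⟩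
  rw [Subgroup.mem_bot.1 hx, one_mul, mul_one]

/-- The centralizer of a product of two commuting transvections lies inside. -/
theorem cent_rep_one [Finite G] {g : G} (hg : Commute g (f (rep 1))) : g ∈ f.range := by
  set z := f (rep 1) with hz
  set H := Subgroup.centralizer ({z} : Set G) with hH
  have hin : ∀ x : Fin 64, commC (tvC x.val) (mulC (tvC 8) (tvC 16)) = true → f (tvS x) ∈ H := by
    intro x hx
    refine Subgroup.mem_centralizer_singleton_iff.2 ?_
    have hc : Commute (tvS x) (rep 1) := by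
      refine (commC_iff _ _).1 ?_
      rw [codeS_tvS, show rep 1 = tvS 8 * tvS 16 from rfl, codeS_mul, codeS_tvS, codeS_tvS]
      exact hx
    exact (hc.map f).eq
  set w : H := ⟨f (tvS 24), hin 24 (cls_facts.2.2.2.2.2.2.2.2 2)⟩ with hw
  have hiso : Cfsg.IsIsolatedInvolution w := by
    refine ⟨orderOf_eq_prime (by rw [pow_two]; exact Subtype.ext (by
      change f (tvS 24) * f (tvS 24) = 1
      rw [← map_mul, tvS_sq, map_one])) fun h => ?_, fun x hx => Subtype.ext ?_⟩
    · have : f (tvS 24) = 1 := congrArg Subtype.val h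
      have h1 : tvS 24 = 1 := D.inj (this.trans (map_one f).symm)
      have h0 := cls_tvS (x := 24) (by decide)
      rw [h1, codeS_one, clsC_one] at h0
      omega
    have hx' : Commute (f (tvS 24)) ((x : G) * f (tvS 24) * (x : G)⁻¹) := hx.map H.subtype
    obtain ⟨s, hs⟩ := D.move (by decide) (D.mem_of_comm (by decide) hx'.symm)
    change (x : G) * f (tvS 24) * (x : G)⁻¹ = f (tvS 24)
    have hcom : Commute s (rep 1) := D.inj (by
      rw [map_mul, map_mul, hs]
      exact Subgroup.mem_centralizer_singleton_iff.1 x.2)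
    rw [← hs, ← map_inv, ← map_mul, ← map_mul, tvS_conj]
    have e : tvS ((s : Equiv.Perm (Fin 64)) 8) * tvS ((s : Equiv.Perm (Fin 64)) 16) = tvS 8 * tvS 16 := by
      rw [← tvS_conj, ← tvS_conj, show s * tvS 8 * s⁻¹ * (s * tvS 16 * s⁻¹) = s * rep 1 * s⁻¹ by
        change _ = s * (tvS 8 * tvS 16) * s⁻¹; group, hcom.eq, mul_inv_cancel_right]
      rfl
    have e' := congrArg codeS e
    simp only [codeS_mul, codeS_tvS] at e'
    have := pair_fix _ _ e' (apply_ne_zero s (by decide)) (apply_ne_zero s (by decide))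
    congr 2
    exact (S_linear s 8 16).trans this
  set O := (Cfsg.oddCore H).map H.subtype with hO
  have hOr : O ≤ f.range := by
    refine D.odd_le ?_ fun i => ?_
    · rw [hO, Subgroup.card_subtype]
      exact InvChar.Core.odd_card_oddCore
    · refine Subgroup.mem_normalizer_iff.2 fun x => ?_
      set a : H := ⟨_, hin (lagr i) (cls_facts.2.2.2.2.2.2.2.2 i)⟩ with ha
      refine ⟨?_, fun hx => ?_⟩
      · rintro ⟨y, hy, rfl⟩
        exact ⟨a * y * a⁻¹, (inferInstance : (Cfsg.oddCore H).Normal).conj_mem y hy a, rfl⟩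
      · obtain ⟨y, hy, e⟩ := hx
        refine ⟨a⁻¹ * y * a⁻¹⁻¹, (inferInstance : (Cfsg.oddCore H).Normal).conj_mem y hy a⁻¹, ?_⟩
        simp only [map_mul, map_inv, e, inv_inv]
        change (f (tvS (lagr i)))⁻¹ * _ * f (tvS (lagr i)) = x
        group
  have hgH : g ∈ H := Subgroup.mem_centralizer_singleton_iff.2 hg.eq
  have htop := ZStar.InvariantSylow.oddCore_sup_centralizer hiso
  have : (⊤ : Subgroup H) ≤ f.range.comap H.subtype := by
    rw [← htop]
    refine sup_le (fun y hy => hOr ⟨y, hy, rfl⟩) fun y hy => D.mem_of_comm (x := 24) (by decide) ?_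
    exact (show Commute y w from Subgroup.mem_centralizer_singleton_iff.1 hy).map H.subtype
  exact this (Subgroup.mem_top ⟨g, hgH⟩)

theorem cent_of_rep {i : Fin 4} (h : ∀ g, Commute g (f (rep i)) → g ∈ f.range) {s : S} (hs : s * s = 1)
    (hs1 : s ≠ 1) (hi : clsC (codeS s) = i.val) {g : G} (hg : Commute g (f s)) : g ∈ f.range := by
  obtain ⟨k, j, hj, hk⟩ := exists_rep_cls hs hs1
  obtain rfl : j = i := Fin.ext (hj.trans hi)
  have h8 : Commute ((f k)⁻¹ * g * f k) (f (rep j)) := by
    have := hg.map (MulAut.conj (f k)⁻¹).toMonoidHom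
    simp only [MulEquiv.coe_toMonoidHom, MulAut.conj_apply, inv_inv] at this
    rwa [show (f k)⁻¹ * f s * f k = f (rep j) by rw [← hk, map_mul, map_mul, map_inv]; group] at this
  have := mul_mem (mul_mem (⟨k, rfl⟩ : f k ∈ f.range) (h _ h8)) (inv_mem (⟨k, rfl⟩ : f k ∈ f.range))
  rwa [show f k * ((f k)⁻¹ * g * f k) * (f k)⁻¹ = g by group] at this

/-- Classes one and three stay apart. -/
theorem one_ne_three [Finite G] : ¬ IsConj (f (rep 3)) (f (rep 1)) := by
  intro h
  obtain ⟨g, hg⟩ := isConj_iff.1 h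
  have hc : Commute (g * f (tvS 8) * g⁻¹) (f (rep 1)) := by
    have h8 : Commute (tvS 8) (rep 3) := by
      refine (commC_iff _ _).1 ?_
      rw [codeS_tvS, show rep 3 = tvS 8 * tvS 16 * tvS 20 from rfl, codeS_mul, codeS_mul, codeS_tvS,
        codeS_tvS, codeS_tvS]
      exact cls_facts.2.2.2.2.2.2.1
    have := (h8.map f).map (MulAut.conj g).toMonoidHom
    simpa only [MulEquiv.coe_toMonoidHom, MulAut.conj_apply, hg] using this
  obtain ⟨s, rfl⟩ := D.move (by decide) (D.cent_rep_one hc)
  rw [← map_inv, ← map_mul, ← map_mul] at hg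
  have h3 := clsC_conj_rep s 3
  have h1 := clsC_conj_rep 1 1
  rw [D.inj hg, ← show (1 : S) * rep 1 * 1⁻¹ = rep 1 by group, h1] at h3
  exact absurd h3 (by decide)

/-- The centralizers of the other two classes lie inside. -/
theorem cent_other [Finite G] {i : Fin 4} {x : Fin 64} (hx : x ≠ 0)
    (hc8 : Commute (tvS 8) (rep i)) (hcx : Commute (tvS x) (rep i))
    (h1 : clsC (codeS (tvS 8 * rep i)) = 1) (h3 : clsC (codeS (tvS x * rep i)) = 3)
    {g : G} (hg : Commute g (f (rep i))) : g ∈ f.range := by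
  set z := f (rep i) with hz
  set β := g * f (tvS 8) * g⁻¹ with hβ
  refine D.move (x := 8) (by decide) ?_
  have hβ2 : β * β = 1 := by
    rw [hβ, show g * f (tvS 8) * g⁻¹ * (g * f (tvS 8) * g⁻¹) = g * (f (tvS 8) * f (tvS 8)) * g⁻¹ by group,
      ← map_mul, tvS_sq, map_one, mul_one, mul_inv_cancel]
  have hβz : Commute β z := (hg.mul_left (hc8.map f)).mul_left hg.inv_left
  have hsq : ∀ y, Commute (tvS y) (rep i) → tvS y * rep i * (tvS y * rep i) = 1 := fun y hy => by
    rw [show tvS y * rep i * (tvS y * rep i) = tvS y * (rep i * tvS y) * rep i by group, ← hy.eq,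
      show tvS y * (tvS y * rep i) * rep i = tvS y * tvS y * (rep i * rep i) by group, tvS_sq, rep_sq,
      one_mul]
  have hne : ∀ y, Commute (tvS y) (rep i) → ∀ j : Fin 4, clsC (codeS (tvS y * rep i)) = j.val →
      IsConj (f (rep j)) (f (tvS y * rep i)) := by
    intro y hy j hj
    have hne1 : tvS y * rep i ≠ 1 := fun e => by
      rw [e, codeS_one, clsC_one] at hj
      omega
    obtain ⟨k, j', hj', hk⟩ := exists_rep_cls (hsq y hy) hne1
    obtain rfl : j' = j := Fin.ext (hj'.trans hj)
    exact isConj_iff.2 ⟨f k, by rw [← map_inv, ← map_mul, ← map_mul, hk]⟩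
  obtain ⟨y, hy0, hyc, hyne⟩ : ∃ y : Fin 64, y ≠ 0 ∧ Commute (tvS y) (rep i) ∧
      ¬ IsConj (f (tvS y * rep i)) (β * z) := by
    by_cases hc : IsConj (f (rep 1)) (β * z)
    · exact ⟨x, hx, hcx, fun h => D.one_ne_three (((hne x hcx 3 h3).trans h).trans hc.symm)⟩
    · exact ⟨8, by decide, hc8, fun h => hc ((hne 8 hc8 1 h1).trans h)⟩
  set w := f (tvS y) with hwdef
  have hw2 : w * w = 1 := by rw [hwdef, ← map_mul, tvS_sq, map_one]
  have hclos : ∀ a ∈ Subgroup.closure ({w, β} : Set G), Commute a z := by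
    intro a ha
    induction ha using Subgroup.closure_induction with
    | mem b hb => rcases hb with rfl | rfl; exacts [hyc.map f, hβz]
    | one => exact Commute.one_left _
    | mul a b _ _ ha hb => exact ha.mul_left hb
    | inv a _ ha => exact ha.inv_left
  rcases dihedral_full hw2 hβ2 with ⟨a, ha, e⟩ | ⟨c, hcD, hc2, hc1, hcw, hcv, a, ha, hcases⟩
  · refine absurd (isConj_iff.2 ⟨a, ?_⟩) hyne
    rw [map_mul, show a * (f (tvS y) * f (rep i)) * a⁻¹ = a * w * a⁻¹ * (a * z * a⁻¹) by
      rw [hwdef, hz]; group, e, (hclos a ha).eq, mul_inv_cancel_right]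
  obtain ⟨τ, rfl⟩ : c ∈ f.range := D.mem_of_comm hy0 (show Commute c w from hcw)
  have hτy : IsConj (f (tvS 8)) (f (τ * tvS y)) := by
    rw [map_mul, ← hwdef]
    rcases hcases with ⟨e1, -⟩ | ⟨e1, -⟩
    · exact (isConj_tvS f hy0).trans (isConj_iff.2 ⟨a, e1⟩)
    · exact (isConj_iff.2 ⟨g, hβ.symm⟩).trans (isConj_iff.2 ⟨a, e1⟩)
  obtain ⟨y', hy', hy'e⟩ := D.conj _ hτy
  have hτe : τ = tvS y' * tvS y := by rw [← hy'e, mul_assoc, tvS_sq, mul_one]
  have hyy : y' ≠ y := fun e => hc1 (by rw [hτe, e, tvS_sq, map_one])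
  have hτc : Commute τ (tvS y) := D.inj (by rw [map_mul, map_mul]; exact hcw)
  have hbil : bil y' y = false := by
    refine tvS_comm_bil ?_
    rw [← hy'e]
    exact hτc.mul_left (Commute.refl _)
  have hcls : clsC (codeS τ) = 1 := by
    have := List.all_eq_true.1 invT_ok _ (two_mem_invT hy' hy0 hyy hbil)
    simp only [Bool.and_eq_true, beq_iff_eq] at this
    rw [hτe]
    exact this.1
  exact D.cent_of_rep (i := 1) (fun _ h => D.cent_rep_one h) (D.inj (by rw [map_mul, hc2, map_one]))
    (fun e => hc1 (by rw [e, map_one])) hcls (show Commute β (f τ) from hcv.symm)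

/-- The centralizer of an involution of the image lies inside. -/
theorem cent_all [Finite G] {s : S} (hs : s * s = 1) (hs1 : s ≠ 1) {g : G} (hg : Commute g (f s)) :
    g ∈ f.range := by
  obtain ⟨-, i, hi, -⟩ := exists_rep_cls hs hs1
  refine D.cent_of_rep (i := i) ?_ hs hs1 hi.symm hg
  obtain ⟨a1, a2, b1, b2, ca1, ca2, cb1, cb2, -⟩ := cls_facts
  fin_cases i
  · exact D.cent
  · exact fun g hg => D.cent_rep_one hg
  · intro g hg
    have e : codeS (rep 2) = mulC (mulC (tvC 8) (tvC 16)) (tvC 24) := by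
      rw [show rep 2 = tvS 8 * tvS 16 * tvS 24 from rfl, codeS_mul, codeS_mul, codeS_tvS, codeS_tvS,
        codeS_tvS]
      rfl
    refine D.cent_other (i := 2) (x := 32) (by decide) ((commC_iff _ _).1 ?_) ((commC_iff _ _).1 ?_) ?_ ?_ hg
    · rw [codeS_tvS, e]; exact ca1
    · rw [codeS_tvS, e]; exact ca2
    · rw [codeS_mul, codeS_tvS, e]; exact a1
    · rw [codeS_mul, codeS_tvS, e]; exact a2
  · intro g hg
    have e : codeS (rep 3) = mulC (mulC (tvC 8) (tvC 16)) (tvC 20) := by
      rw [show rep 3 = tvS 8 * tvS 16 * tvS 20 from rfl, codeS_mul, codeS_mul, codeS_tvS, codeS_tvS,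
        codeS_tvS]
      rfl
    refine D.cent_other (i := 3) (x := 24) (by decide) ((commC_iff _ _).1 ?_) ((commC_iff _ _).1 ?_) ?_ ?_ hg
    · rw [codeS_tvS, e]; exact cb1
    · rw [codeS_tvS, e]; exact cb2
    · rw [codeS_mul, codeS_tvS, e]; exact b1
    · rw [codeS_mul, codeS_tvS, e]; exact b2

/-- The image is everything. -/
theorem surjective [Finite G] : Function.Surjective f := by
  intro g
  change g ∈ f.range
  refine D.move (x := 8) (by decide) ?_
  set β := g * f (tvS 8) * g⁻¹ with hβ
  have hβ2 : β * β = 1 := by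
    rw [hβ, show g * f (tvS 8) * g⁻¹ * (g * f (tvS 8) * g⁻¹) = g * (f (tvS 8) * f (tvS 8)) * g⁻¹ by group,
      ← map_mul, tvS_sq, map_one, mul_one, mul_inv_cancel]
  have hw2 : f (rep 1) * f (rep 1) = 1 := by rw [← map_mul, rep_sq, map_one]
  rcases dihedral_full hw2 hβ2 with ⟨a, -, e⟩ | ⟨c, -, hc2, hc1, hcw, hcv, -⟩
  · exfalso
    obtain ⟨y, hy, hye⟩ := D.conj (rep 1) ((isConj_iff.2 ⟨g, hβ.symm⟩).trans (isConj_iff.2 ⟨a, e⟩).symm)
    have h1 := clsC_conj_rep 1 1
    rw [one_mul, inv_one, mul_one, hye, cls_tvS hy] at h1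
    exact absurd h1 (by decide)
  · obtain ⟨τ, rfl⟩ : c ∈ f.range := D.cent_rep_one (show Commute c (f (rep 1)) from hcw)
    exact D.cent_all (D.inj (by rw [map_mul, hc2, map_one])) (fun e => hc1 (by rw [e, map_one]))
      (show Commute β (f τ) from hcv.symm)

end Hyp

end Cfsg.Agent.AltTwelve.Sp
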