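import Mathlib

/-!
# The centralizer of a fixed-point-free involution of degree twelve: the thirty transposition lifts

The centralizer permutes the six blocks `{2k, 2k+1}`. A transposition of two blocks has two lifts of type
`2²`; they are numbered by `2 p + b` with `p` the number of the pair of blocks.
-/

set_option autoImplicit false
set_option maxRecDepth 100000

namespace Cfsg.Agent.AltTwelve.Sp

/-- The fixed-point-free involution. -/
def al : Equiv.Perm (Fin 12) :=
  Equiv.swap (0 : Fin 12) 1 * Equiv.swap (2 : Fin 12) 3 * Equiv.swap (4 : Fin 12) 5 *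
    Equiv.swap (6 : Fin 12) 7 * Equiv.swap (8 : Fin 12) 9 * Equiv.swap (10 : Fin 12) 11

/-- Its centralizer in the alternating group. -/
abbrev C0 : Subgroup (Equiv.Perm (Fin 12)) :=
  alternatingGroup (Fin 12) ⊓ Subgroup.centralizer ({al} : Set (Equiv.Perm (Fin 12)))

/-- The first block of a pair. -/
def fstB : Fin 15 → Fin 6 := ![0, 0, 0, 0, 0, 1, 1, 1, 1, 2, 2, 2, 3, 3, 4]

/-- The second block of a pair. -/
def sndB : Fin 15 → Fin 6 := ![1, 2, 3, 4, 5, 2, 3, 4, 5, 3, 4, 5, 4, 5, 5]

/-- The lift with the given number. -/
def tP (i : Fin 30) : Equiv.Perm (Fin 12) :=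
  let p : Fin 15 := ⟨i.val / 2, by omega⟩
  let a : ℕ := 2 * (fstB p).val
  let b : ℕ := 2 * (sndB p).val + i.val % 2
  let c : ℕ := 2 * (sndB p).val + (1 - i.val % 2)
  Equiv.swap (Fin.ofNat 12 a) (Fin.ofNat 12 b) * Equiv.swap (Fin.ofNat 12 (a + 1)) (Fin.ofNat 12 c)

theorem mem_C0 {x : Equiv.Perm (Fin 12)} (h1 : Equiv.Perm.sign x = 1) (h2 : x * al = al * x) : x ∈ C0 :=
  ⟨Equiv.Perm.mem_alternatingGroup.2 h1, Subgroup.mem_centralizer_singleton_iff.2 h2⟩

theorem tP_facts : ∀ i, Equiv.Perm.sign (tP i) = 1 ∧ tP i * al = al * tP i ∧ tP i * tP i = 1 := by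
  decide +kernel

theorem al_facts : Equiv.Perm.sign al = 1 ∧ al * al = 1 := by decide +kernel

/-- The involution in its centralizer. -/
def alC : C0 := ⟨al, mem_C0 al_facts.1 rfl⟩

/-- The lifts in the centralizer. -/
def T (i : Fin 30) : C0 := ⟨tP i, mem_C0 (tP_facts i).1 (tP_facts i).2.1⟩

theorem T_sq (i : Fin 30) : T i * T i = 1 := Subtype.ext (tP_facts i).2.2

theorem alC_central (c : C0) : Commute c alC :=
  Subtype.ext (Subgroup.mem_centralizer_singleton_iff.1 c.2.2)

/-- Commutation of the lifts, as a packed table. -/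
def comTab : ℕ := 6345846744045685304509671440516422931913424573790241597501332131329943685147024301613875654951171881792713816037155169911962020613121255274978184353649723957562463595845546101153831043451026863653708844866421149680157988460872537862247399472211015717504302967213277315075

/-- Conjugation of the lifts, as a packed table. -/
def cjTab : ℕ := 40317208662037935399697875342441299725689711141738908567823990608666838138538518489763610821002531682801674433018250135526076666428413895092446257917537757942304104313702191464859767170060138348945232943595568684999702309131670026932475994248999522057660688624998995200820159825949551067641048003303977066216959817872704577773526339695598896625235550312206467635405946941185063852434368026039568402517177487300602984180976275478562291365911592398128842926973434310000304437168863318892288706251462156129342949696826134593822291801723860342993665282662562674484026485031600966185821335361892685399425946799963544391105993610979334725729766594105387206525954852245545914244377143766763653889109090339240394947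758989368641982079308651492963198161127001777789705029739434393299243416205740032722608574178549362909125093091539263686076066677600051398230289347332297847507403627886918638921739909917768422628207969562240002843802258451517913103995632780005033656116305037072160618265272920232254611590723623528905546707821913038402743254101274489866901133709444363980922905077607500983322550695613921520478860223187710172056852057377533373221579572621081365855989788682716179610678645109799556304783091067270955709336777851331056946878953194878279532511679882231583907619598251237039509913548169610251164464094340332744473458691082009337764809029127298380834848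

/-- Whether two lifts commute. -/
def com (i j : Fin 30) : Bool := (comTab >>> (30 * i.val + j.val)) % 2 == 1

/-- The conjugate of the second lift by the first. -/
def cj (i j : Fin 30) : Fin 30 := Fin.ofNat 30 ((cjTab >>> (5 * (30 * i.val + j.val))) % 32)

theorem tab_ok : ∀ i j, (com i j = true ↔ tP i * tP j = tP j * tP i) ∧ tP i * tP j * tP i = tP (cj i j) := by
  decide +kernel

theorem com_iff (i j : Fin 30) : com i j = true ↔ Commute (T i) (T j) :=
  (tab_ok i j).1.trans ⟨fun h => Subtype.ext h, fun h => congrArg Subtype.val h.eq⟩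

theorem T_conj (i j : Fin 30) : T i * T j * T i = T (cj i j) := Subtype.ext (tab_ok i j).2

/-- The pair of a lift. -/
def pr (i : Fin 30) : Fin 15 := ⟨i.val / 2, by omega⟩

/-- Disjoint or equal pairs, as a packed table. -/
def pcTab : ℕ := 27972403365021527786902424362979137747293030352834844203303965916673

/-- Pairs after a transposition, as a packed table. -/
def pjTab : ℕ := 7820555016295813430296788426815251319272726432931077822525296261264463711617079816692040525732813037885312240667987459628985222168243553293151384648984730440253897332757130403733159928685479537560877878286167431543329059093196061117377558620590032228839022737138153715280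

/-- Whether the lifts of two pairs commute. -/
def pc (i j : Fin 15) : Bool := (pcTab >>> (15 * i.val + j.val)) % 2 == 1

/-- A pair after the transposition of another. -/
def pj (i j : Fin 15) : Fin 15 := Fin.ofNat 15 ((pjTab >>> (4 * (15 * i.val + j.val))) % 16)

theorem pr_ok : ∀ i j, com i j = pc (pr i) (pr j) ∧ pr (cj i j) = pj (pr i) (pr j) := by decide +kernel

/-- Conjugate or not. -/
def app (b : Bool) (i j : Fin 30) : Fin 30 := bif b then cj i j else j

/-- Transpose or not. -/
def papp (b : Bool) (i j : Fin 15) : Fin 15 := bif b then pj i j else j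

theorem pr_app (b : Bool) (i j : Fin 30) : pr (app b i j) = papp b (pr i) (pr j) := by
  cases b
  · rfl
  · exact (pr_ok i j).2

theorem padjust : ∀ A B : Fin 15, pc A B = true → ∀ C : Fin 15, pc A C = true → pc B C = true →
    ∀ r : Fin 15, pc r B = true → pc r A = false → pc r C = false →
    ∀ s : Fin 15, pc s A = true → pc s B = false → pc s C = false →
    ∃ b0 b1 b2 : Bool, pc (papp b2 C (papp b1 B (papp b0 A r))) s = true := by
  decide +kernel

/-- Any two transversals of the blocks of a partition are disjoint after conjugation. -/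
theorem adjust {A B C r s : Fin 30} (hAB : com A B = true) (hAC : com A C = true) (hBC : com B C = true)
    (hrB : com r B = true) (hrA : com r A = false) (hrC : com r C = false) (hsA : com s A = true)
    (hsB : com s B = false) (hsC : com s C = false) :
    ∃ b0 b1 b2 : Bool, com (app b2 C (app b1 B (app b0 A r))) s = true := by
  simp only [(pr_ok _ _).1, pr_app] at hAB hAC hBC hrB hrA hrC hsA hsB hsC ⊢
  exact padjust _ _ hAB _ hAC hBC _ hrB hrA hrC _ hsA hsB hsC

theorem alC_ne_T : ∀ i, tP i ≠ al := by decide +kernel

/-- The nodes inside: `v`, `u`, `q`, the fourth node, `u'`. -/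
def nodeIdx : Fin 5 → Fin 30 := ![18, 0, 24, 14, 1]

/-- Elements fixing `α`, `u`, `u'`, `v` that move the possible third nodes to the chosen one. -/
def adjP (b1 b2 b3 : Bool) : Equiv.Perm (Fin 12) :=
  (bif b1 then tP 18 else 1) * (bif b2 then tP 28 else 1) *
    (bif b3 then Equiv.swap (8 : Fin 12) 9 * Equiv.swap (10 : Fin 12) 11 else 1)

theorem adjP_facts : ∀ b1 b2 b3, Equiv.Perm.sign (adjP b1 b2 b3) = 1 ∧
    adjP b1 b2 b3 * al = al * adjP b1 b2 b3 ∧ adjP b1 b2 b3 * tP 0 = tP 0 * adjP b1 b2 b3 ∧
    adjP b1 b2 b3 * tP 1 = tP 1 * adjP b1 b2 b3 ∧ adjP b1 b2 b3 * tP 18 = tP 18 * adjP b1 b2 b3 := by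
  decide +kernel

/-- The possible third nodes. -/
def thirdQ (i : Fin 30) : Bool := com i 0 && com i 1 && !com i 18

theorem thirdQ_card : (Finset.univ.filter fun i => thirdQ i = true).card = 8 := by decide +kernel

theorem thirdQ_move : ∀ i, thirdQ i = true →
    ∃ b1 b2 b3, adjP b1 b2 b3 * tP i = tP 24 * adjP b1 b2 b3 := by
  decide +kernel

/-- Elements moving the lift `u` to any lift. -/
def moveP (i : Fin 30) (j : Fin 30) : Equiv.Perm (Fin 12) := tP i * tP j

theorem move_u : ∃ i j, moveP i j * tP 0 = tP 18 * moveP i j := by decide +kernel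

theorem move_q : ∃ i j, moveP i j * tP 18 = tP 24 * moveP i j := by decide +kernel

theorem move_tau : ∃ i j, moveP i j * tP 0 = tP 8 * moveP i j := by decide +kernel

theorem move_four : ∃ i j, moveP i j * tP 0 = tP 14 * moveP i j := by decide +kernel

theorem T_inj : ∀ i j, tP i = tP j → i = j := by decide +kernel

theorem five_facts : (com 0 18 = true ∧ com 1 18 = true ∧ com 0 1 = true) ∧ com 0 24 = true ∧
    com 1 24 = true ∧ (com 8 18 = true ∧ com 8 0 = false ∧ com 8 1 = false) ∧
    (com 14 18 = true ∧ com 14 0 = false ∧ com 14 1 = false) := by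
  decide +kernel

theorem five_ne : com 18 24 = false := by decide +kernel

theorem rep_facts :
    (∀ i, al * tP 0 ≠ tP i) ∧ al * tP 0 ≠ al ∧
    (∀ i, al * tP 0 * tP 1 ≠ tP i) ∧ al * tP 0 * tP 1 ≠ al ∧
    (∀ i, al * tP 0 * tP 18 ≠ tP i) ∧ al * tP 0 * tP 18 ≠ al := by
  decide +kernel

/-- An element moving the point `0` to the given point. -/
def reachP : Fin 12 → Equiv.Perm (Fin 12) :=
  ![1, al, tP 0, al * tP 0, tP 18 * (tP 24 * (tP 14 * tP 0)), al * (tP 18 * (tP 24 * (tP 14 * tP 0))),
    tP 24 * (tP 14 * tP 0), al * (tP 24 * (tP 14 * tP 0)), tP 14 * tP 0, al * (tP 14 * tP 0), 1, al]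

theorem reachP_spec : ∀ x : Fin 12, reachP x (if x.val < 10 then 0 else 10) = x := by decide +kernel

/-- The map commuting with the nodes with given values at `0` and `10`. -/
def extP (c d x : Fin 12) : Fin 12 := reachP x (if x.val < 10 then c else d)

theorem extP_small : ∀ c d : Fin 12,
    (∀ k : Fin 5, ∀ x : Fin 12, extP c d (tP (nodeIdx k) x) = tP (nodeIdx k) (extP c d x)) →
    (∀ x y, extP c d x = extP c d y → x = y) →
    (∀ x, extP c d x = x) ∨ (∀ x, extP c d x = al x) ∨
      (∀ x, extP c d x = Equiv.swap (10 : Fin 12) 11 x) ∨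
      (∀ x, extP c d x = (al * Equiv.swap (10 : Fin 12) 11) x) := by
  decide +kernel

theorem odd_swaps : Equiv.Perm.sign (Equiv.swap (10 : Fin 12) 11) = -1 ∧
    Equiv.Perm.sign (al * Equiv.swap (10 : Fin 12) 11) = -1 := by
  decide +kernel

/-- An element of the centralizer commuting with the nodes is trivial or the involution. -/
theorem cent_nodes (c : C0) (h : ∀ k, Commute c (T (nodeIdx k))) : c = 1 ∨ c = alC := by
  have hk : ∀ k, Commute c.val (tP (nodeIdx k)) := fun k => (h k).map C0.subtype
  have hal : Commute c.val al := (alC_central c).map C0.subtype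
  have hr : ∀ x, Commute c.val (reachP x) := by
    have h0 := hk 1
    have h18 := hk 0
    have h24 := hk 2
    have h14 := hk 3
    have e1 := Commute.one_right c.val
    have e8 := h14.mul_right h0
    have e6 := h24.mul_right e8
    have e4 := h18.mul_right e6
    simp only [reachP, Fin.forall_fin_succ, Matrix.cons_val_zero, Matrix.cons_val_succ, IsEmpty.forall_iff,
      and_true]
    exact ⟨e1, hal, h0, hal.mul_right h0, e4, hal.mul_right e4, e6, hal.mul_right e6, e8,
      hal.mul_right e8, e1, hal⟩
  have he : ∀ x, c.val x = extP (c.val 0) (c.val 10) x := by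
    intro x
    conv_lhs => rw [← reachP_spec x]
    rw [← Equiv.Perm.mul_apply, (hr x).eq, Equiv.Perm.mul_apply, extP, apply_ite c.val]
  rcases extP_small (c.val 0) (c.val 10)
      (fun k x => by rw [← he, ← he, ← Equiv.Perm.mul_apply, (hk k).eq, Equiv.Perm.mul_apply])
      (fun x y e => c.val.injective ((he x).trans (e.trans (he y).symm))) with e | e | e | e
  · exact Or.inl (Subtype.ext (Equiv.ext fun x => (he x).trans (e x)))
  · exact Or.inr (Subtype.ext (Equiv.ext fun x => (he x).trans (e x)))
  all_goals
    exfalso
    have hs : Equiv.Perm.sign c.val = 1 := Equiv.Perm.mem_alternatingGroup.1 c.2.1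
    rw [Equiv.ext fun x => (he x).trans (e x)] at hs
  · rw [odd_swaps.1] at hs; exact absurd hs (by decide)
  · rw [odd_swaps.2] at hs; exact absurd hs (by decide)

theorem rel_nodes : ∀ k l : Fin 5,
    (CoxeterMatrix.E₇ (Fin.castLE (by norm_num) k) (Fin.castLE (by norm_num) l) = 2 →
      tP (nodeIdx k) * tP (nodeIdx l) = tP (nodeIdx l) * tP (nodeIdx k)) ∧
    (CoxeterMatrix.E₇ (Fin.castLE (by norm_num) k) (Fin.castLE (by norm_num) l) = 3 →
      tP (nodeIdx k) * tP (nodeIdx l) * tP (nodeIdx k) = tP (nodeIdx l) * tP (nodeIdx k) * tP (nodeIdx l)) := by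
  decide +kernel

theorem tau_facts :
    tP 8 * tP 18 = tP 18 * tP 8 ∧ tP 8 * tP 24 = tP 24 * tP 8 ∧
    tP 8 * tP 0 * tP 8 = tP 0 * tP 8 * tP 0 ∧ tP 8 * tP 1 * tP 8 = tP 1 * tP 8 * tP 1 ∧
    tP 8 ≠ tP 1 ∧ tP 8 ≠ tP 0 := by
  decide +kernel

theorem rel_alpha : ∀ k : Fin 5, CoxeterMatrix.E₇ (Fin.castLE (by norm_num) k) 6 = 2 ∧
    CoxeterMatrix.E₇ 6 (Fin.castLE (by norm_num) k) = 2 := by
  decide +kernel

theorem rel_five : CoxeterMatrix.E₇ 5 5 = 1 ∧ CoxeterMatrix.E₇ 5 0 = 2 ∧ CoxeterMatrix.E₇ 5 1 = 2 ∧
    CoxeterMatrix.E₇ 5 2 = 2 ∧ CoxeterMatrix.E₇ 5 3 = 2 ∧ CoxeterMatrix.E₇ 5 4 = 3 ∧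
    CoxeterMatrix.E₇ 5 6 = 3 := by
  decide +kernel

theorem al_cycleType : al.cycleType = Multiset.replicate 6 2 := by decide +kernel

theorem al_nontriv : al ≠ 1 := by decide +kernel

theorem card_C0 : Nat.card C0 ≤ 23040 := by
  classical
  have hc : Nat.card (Subgroup.centralizer ({al} : Set (Equiv.Perm (Fin 12)))) = 46080 := by
    rw [Equiv.Perm.nat_card_centralizer, al_cycleType]
    norm_num [Multiset.toFinset_replicate, Nat.factorial]
  set K := Subgroup.centralizer ({al} : Set (Equiv.Perm (Fin 12)))
  have hs : Equiv.swap (10 : Fin 12) 11 ∈ K :=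
    Subgroup.mem_centralizer_singleton_iff.2 (by decide +kernel)
  let f : C0 × Fin 2 → K := fun p =>
    ⟨p.1.val * (if p.2 = 0 then 1 else Equiv.swap (10 : Fin 12) 11),
      mul_mem p.1.2.2 (by split; exacts [one_mem _, hs])⟩
  have hf : Function.Injective f := by
    rintro ⟨c, i⟩ ⟨c', j⟩ h
    have h' : c.val * (if i = 0 then (1 : Equiv.Perm (Fin 12)) else Equiv.swap (10 : Fin 12) 11) =
        c'.val * (if j = 0 then 1 else Equiv.swap (10 : Fin 12) 11) := congrArg Subtype.val h
    have hsgn := congrArg Equiv.Perm.sign h'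
    simp only [map_mul, Equiv.Perm.mem_alternatingGroup.1 c.2.1,
      Equiv.Perm.mem_alternatingGroup.1 c'.2.1, one_mul] at hsgn
    fin_cases i <;> fin_cases j <;> simp at h' hsgn ⊢
    · exact h'
    · exact h'
  have := Nat.card_le_card_of_injective f hf
  rw [Nat.card_prod, hc, Nat.card_fin] at this
  omega

end Cfsg.Agent.AltTwelve.Sp
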